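import Cfsg.Agent.H61.K6.Base
import Cfsg.Agent.H656.OverPrincipal
import Cfsg.Agent.Characters.Clifford

/-!
# S4876: criterion D (helper61)

`KGe.of_chars` : `n` members of `B₀(X)`, pairwise not conjugate under `Aut X`;  `KGe.of_degrees` : of different degrees.
-/

set_option autoImplicit false

open Cfsg

namespace Cfsg.Agent.H61.K6

open scoped ComplexConjugate

universe u v

/-- transport of an irreducible character along an isomorphism -/
def tw {X Y : Type*} [Group X] [Group Y] (e : Y ≃* X) (χ : IrrCharacter X) : IrrCharacter Y :=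
  ⟨fun y => (χ : X → ℂ) (e y), Characters.Core.isIrr_comp e.toMonoidHom e.surjective χ.2⟩

theorem tw_apply {X Y : Type*} [Group X] [Group Y] (e : Y ≃* X) (χ : IrrCharacter X) (y : Y) :
    (tw e χ : Y → ℂ) y = (χ : X → ℂ) (e y) := rfl

theorem tw_mem {X Y : Type*} [Group X] [Group Y] {M : Ideal AlgInt} (e : Y ≃* X) {χ : IrrCharacter X}
    (hχ : χ ∈ principalBlock M X) : tw e χ ∈ principalBlock M Y := by
  have hidx : ∀ y : Y, (Subgroup.centralizer ({y} : Set Y)).index =
      (Subgroup.centralizer ({e y} : Set X)).index := by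
    intro y
    rw [← Subgroup.index_comap_of_surjective _ e.surjective (f := e.toMonoidHom)]
    congr 1
    ext z
    rw [Subgroup.mem_comap, Subgroup.mem_centralizer_singleton_iff,
      Subgroup.mem_centralizer_singleton_iff]
    change _ ↔ e z * e y = e y * e z
    rw [← map_mul, ← map_mul]
    exact e.injective.eq_iff.symm
  intro y
  have h1 := hχ (e y)
  have h2 : centralChar (fun _ : Y => (1 : ℂ)) y = centralChar (fun _ : X => (1 : ℂ)) (e y) := by
    rw [Blocks.Basic.centralChar_def, Blocks.Basic.centralChar_def, hidx]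
  have h3 : centralChar (tw e χ : Y → ℂ) y = centralChar (χ : X → ℂ) (e y) := by
    rw [Blocks.Basic.centralChar_def, Blocks.Basic.centralChar_def, hidx, tw_apply, tw_apply, map_one]
  rw [h2, h3]
  exact h1

/-- **CRITERION D.** `n` members of the principal block of `X`, pairwise not conjugate under `Aut X`. -/
theorem KGe.of_chars {p n : ℕ} {X : Type v} [Group X] [Finite X]
    (h : ∀ M : Ideal AlgInt, IsPModular p M → ∃ T : Finset (IrrCharacter X), n ≤ T.card ∧
      (∀ χ ∈ T, χ ∈ principalBlock M X) ∧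
      ∀ χ ∈ T, ∀ ψ ∈ T, ∀ σ : X ≃* X, (∀ x, (ψ : X → ℂ) x = (χ : X → ℂ) (σ x)) → χ = ψ) :
    KGe.{u, v} p n X := by
  classical
  intro M G _ _ K hS
  have : Fact p.Prime := ⟨hS.prime⟩
  have := hS.normal
  have := Fintype.ofFinite G
  have := Fintype.ofFinite K
  obtain ⟨f⟩ := hS.iso
  obtain ⟨T, hTn, hTB, hTσ⟩ := h M hS.modular
  obtain ⟨P⟩ : Nonempty (Sylow p G) := inferInstance
  have hPN : (P : Subgroup G) ≤ Subgroup.normalizer (K : Set G) := by
    rw [Subgroup.normalizer_eq_top]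
    exact le_top
  have hex : ∀ χ : IrrCharacter X, ∃ Φ : IrrCharacter G, χ ∈ T → Φ ∈ principalBlock M G ∧
      classInner (fun k : K => (Φ : G → ℂ) k) (tw f.symm χ : K → ℂ) ≠ 0 := by
    intro χ
    by_cases hχ : χ ∈ T
    · obtain ⟨Φ, hΦ, hc⟩ := H656.OverPrincipal.exists_over hS.modular K P hPN (tw f.symm χ)
        (tw_mem f.symm (hTB χ hχ))
      exact ⟨Φ, fun _ => ⟨hΦ, hc⟩⟩
    · exact ⟨⟨fun _ => 1, Blocks.Basic.isIrrCharacter_one⟩, fun h1 => absurd h1 hχ⟩
  choose F hF using hex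
  have hinj : ∀ χ ∈ T, ∀ ψ ∈ T, F χ = F ψ → χ = ψ := by
    intro χ hχ ψ hψ he
    have h1 := (hF χ hχ).2
    have h2 := (hF ψ hψ).2
    rw [← he] at h2
    obtain ⟨g, hg⟩ := Characters.Clifford.exists_conj_of_constituents K (F χ).2 (tw f.symm χ).2
      (tw f.symm ψ).2 h1 h2
    refine hTσ χ hχ ψ hψ ((f.trans (MulAut.conjNormal g : MulAut K)).trans f.symm) fun x => ?_
    have h3 := congrFun hg (f x)
    rw [tw_apply, f.symm_apply_apply, Function.comp_apply, tw_apply] at h3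
    exact h3
  have hfin : Finite (IrrCharacter G) := Characters.Core.finite_irr
  calc n ≤ T.card := hTn
    _ = (T.image F).card := (Finset.card_image_of_injOn fun χ hχ ψ hψ he => hinj χ hχ ψ hψ he).symm
    _ ≤ Nat.card (principalBlock M G) := by
      rw [← Set.ncard_coe_finset, ← Nat.card_coe_set_eq]
      refine Nat.card_mono (Set.toFinite _) ?_
      intro Φ hΦ
      obtain ⟨χ, hχ, rfl⟩ := Finset.mem_image.1 (Finset.mem_coe.1 hΦ)
      exact (hF χ hχ).1

/-- Criterion D with characters of different degrees. -/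
theorem KGe.of_degrees {p n : ℕ} {X : Type v} [Group X] [Finite X]
    (h : ∀ M : Ideal AlgInt, IsPModular p M → ∃ D : Finset ℕ, n ≤ D.card ∧
      ∀ d ∈ D, ∃ χ ∈ principalBlock M X, (χ : X → ℂ) 1 = d) : KGe.{u, v} p n X := by
  classical
  refine KGe.of_chars fun M hM => ?_
  obtain ⟨D, hDn, hD⟩ := h M hM
  have hex : ∀ d : ℕ, ∃ χ : IrrCharacter X, d ∈ D → χ ∈ principalBlock M X ∧ (χ : X → ℂ) 1 = d := by
    intro d
    by_cases hd : d ∈ D
    · obtain ⟨χ, h1, h2⟩ := hD d hd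
      exact ⟨χ, fun _ => ⟨h1, h2⟩⟩
    · exact ⟨⟨fun _ => 1, Blocks.Basic.isIrrCharacter_one⟩, fun h1 => absurd h1 hd⟩
  choose F hF using hex
  have hinj : ∀ d ∈ D, ∀ e ∈ D, F d = F e → d = e := by
    intro d hd e he h1
    have h2 := (hF d hd).2
    rw [h1, (hF e he).2] at h2
    exact_mod_cast h2.symm
  refine ⟨D.image F, ?_, ?_, ?_⟩
  · rw [Finset.card_image_of_injOn fun d hd e he h1 => hinj d hd e he h1]
    exact hDn
  · intro χ hχ
    obtain ⟨d, hd, rfl⟩ := Finset.mem_image.1 hχ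
    exact (hF d hd).1
  · intro χ hχ ψ hψ σ hσ
    obtain ⟨d, hd, rfl⟩ := Finset.mem_image.1 hχ
    obtain ⟨e, he, rfl⟩ := Finset.mem_image.1 hψ
    have h1 := hσ 1
    rw [map_one, (hF d hd).2, (hF e he).2] at h1
    have h2 : d = e := by exact_mod_cast h1.symm
    rw [h2]

theorem KRow.of_chars {p : ℕ} {X : Type v} [Group X] [Finite X]
    (h : ∀ M : Ideal AlgInt, IsPModular p M → ∃ T : Finset (IrrCharacter X), 7 ≤ T.card ∧
      (∀ χ ∈ T, χ ∈ principalBlock M X) ∧
      ∀ χ ∈ T, ∀ ψ ∈ T, ∀ σ : X ≃* X, (∀ x, (ψ : X → ℂ) x = (χ : X → ℂ) (σ x)) → χ = ψ) :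
    KRow.{u, v} p X := KGe.of_chars h

theorem KRow.of_degrees {p : ℕ} {X : Type v} [Group X] [Finite X]
    (h : ∀ M : Ideal AlgInt, IsPModular p M → ∃ D : Finset ℕ, 7 ≤ D.card ∧
      ∀ d ∈ D, ∃ χ ∈ principalBlock M X, (χ : X → ℂ) 1 = d) : KRow.{u, v} p X := KGe.of_degrees h

end Cfsg.Agent.H61.K6
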