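import Mathlib
import Cfsg.Agent.H634.TwoA

/-!
# S4876 (`k(B₀) = 6`): the interface for the rows (helper61)

`p` is any prime; `X` is the group of the row (`X : Type` or `X : Type u`), `K` a normal subgroup of `G` isomorphic
to `X`, `C_G(K) = 1`, `p ∤ |G : K|` (`Sit p M G K X`).

* `KGe p n X`  : in every such situation `n ≤ k(B₀(G))`;  `KRow p X = KGe p 7 X`;
* `WtGe p x n` : in every such situation `n ≤ l(B₀(C_G(f x)))`, `f : X ≃* K`  (`x : X` a `p`-element);
  - `wtGe_one` : `WtGe p x 1`;
  - `wtGe_two` : `WtGe p x 2` if `C_X(x)` has no normal `p`-complement;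
  - `wt p x` is 2 or 1 accordingly, `wtGe_wt`;
* **CRITERION W** `KGe.of_weights` : `p`-elements (the element `1` is allowed and is worth `l(B₀(G))`) pairwise not
  conjugate under `Aut X`, with total weight at least `n`;  `KRow.of_weights`, `KRow.of_wt`, `KRow.of_wt_card` :
  nontrivial `p`-elements of total weight at least 5.
-/

set_option autoImplicit false

open Cfsg

namespace Cfsg.Agent.H61.K6

open Cfsg.Agent.H634

/-- nontrivial `p`-element -/
def El (p : ℕ) {X : Type*} [Group X] (x : X) : Prop := (∃ k : ℕ, orderOf x = p ^ k) ∧ x ≠ 1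

/-- The situation after the reduction: `K` is a normal subgroup isomorphic to `X`, of index prime to `p`, with trivial
centralizer. -/
structure Sit (p : ℕ) (M : Ideal AlgInt) (G : Type*) [Group G] [Finite G] (K : Subgroup G)
    (X : Type*) [Group X] : Prop where
  modular : IsPModular p M
  normal : K.Normal
  iso : Nonempty (X ≃* K)
  cent : Subgroup.centralizer (K : Set G) = ⊥
  ndvd : ¬ p ∣ K.index

theorem Sit.prime {p : ℕ} {M : Ideal AlgInt} {G : Type*} [Group G] [Finite G] {K : Subgroup G}
    {X : Type*} [Group X] (h : Sit p M G K X) : p.Prime := h.modular.1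

theorem Sit.congr {p : ℕ} {M : Ideal AlgInt} {G : Type*} [Group G] [Finite G] {K : Subgroup G}
    {X Y : Type*} [Group X] [Group Y] (e : X ≃* Y) (h : Sit p M G K X) : Sit p M G K Y :=
  ⟨h.modular, h.normal, ⟨e.symm.trans h.iso.some⟩, h.cent, h.ndvd⟩

/-- `k(B₀(G)) ≥ n` in every situation over `X`. -/
def KGe.{u, v} (p n : ℕ) (X : Type v) [Group X] : Prop :=
  ∀ (M : Ideal AlgInt) (G : Type u) [Group G] [Finite G] (K : Subgroup G), Sit p M G K X →
    n ≤ Nat.card (principalBlock M G)

/-- **Type of a row**: `k(B₀(G)) ≥ 7` in every situation over `X`. -/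
def KRow.{u, v} (p : ℕ) (X : Type v) [Group X] : Prop := KGe.{u, v} p 7 X

/-- The weight of the `p`-element `x` is at least `n`. -/
def WtGe.{u, v} (p : ℕ) {X : Type v} [Group X] (x : X) (n : ℕ) : Prop :=
  ∀ (M : Ideal AlgInt) (G : Type u) [Group G] [Finite G] (K : Subgroup G) (f : X ≃* K), Sit p M G K X →
    n ≤ blockRank p (principalBlock M ↥(Subgroup.centralizer ({((f x : K) : G)} : Set G)))

universe u v w

theorem KGe.mono {p m n : ℕ} {X : Type v} [Group X] (h : KGe.{u, v} p n X) (hmn : m ≤ n) : KGe.{u, v} p m X :=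
  fun M G _ _ K hS => hmn.trans (h M G K hS)

theorem KGe.congr {p n : ℕ} {X : Type v} {Y : Type w} [Group X] [Group Y] (e : X ≃* Y) (h : KGe.{u, v} p n X) :
    KGe.{u, w} p n Y :=
  fun M G _ _ K hS => h M G K (hS.congr e.symm)

theorem KRow.congr {p : ℕ} {X : Type v} {Y : Type w} [Group X] [Group Y] (e : X ≃* Y) (h : KRow.{u, v} p X) :
    KRow.{u, w} p Y := KGe.congr e h

theorem WtGe.mono {p m n : ℕ} {X : Type v} [Group X] {x : X} (h : WtGe.{u, v} p x n) (hmn : m ≤ n) :
    WtGe.{u, v} p x m :=
  fun M G _ _ K f hS => hmn.trans (h M G K f hS)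

/-- Transport along an isomorphism; in particular weights are invariant under automorphisms. -/
theorem WtGe.congr {p n : ℕ} {X : Type v} {Y : Type w} [Group X] [Group Y] (e : X ≃* Y) {x : X}
    (h : WtGe.{u, v} p x n) : WtGe.{u, w} p (e x) n := by
  intro M G _ _ K f hS
  have := h M G K (e.trans f) (hS.congr e.symm)
  exact this

theorem wtGe_one {p : ℕ} {X : Type v} [Group X] (x : X) : WtGe.{u, v} p x 1 := by
  intro M G _ _ K f hS
  have : Fact p.Prime := ⟨hS.prime⟩
  have := Fintype.ofFinite ↥(Subgroup.centralizer ({((f x : K) : G)} : Set G))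
  exact Cols.blockRank_pos hS.modular

/-- a group without a normal `p`-complement has `l(B₀) ≥ 2` -/
theorem two_le_rank {p : ℕ} {M : Ideal AlgInt} {G : Type*} [Group G] [Finite G] (hM : IsPModular p M)
    (h : ¬ HasNormalPComplement p G) : 2 ≤ blockRank p (principalBlock M G) := by
  have : Fact p.Prime := ⟨hM.1⟩
  have := Fintype.ofFinite G
  have h1 := Cols.blockRank_pos (G := G) hM
  by_contra hcon
  exact h (S4646.compl_of_rank_one hM (by omega))

theorem wtGe_two {p : ℕ} {X : Type v} [Group X] {x : X}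
    (hx : ¬ HasNormalPComplement p ↥(Subgroup.centralizer ({x} : Set X))) : WtGe.{u, v} p x 2 := by
  intro M G _ _ K f hS
  have : Fact p.Prime := ⟨hS.prime⟩
  have : Finite X := Finite.of_equiv _ f.symm.toEquiv
  refine two_le_rank hS.modular fun h => hx ?_
  let g : ↥(Subgroup.centralizer ({x} : Set X)) →* ↥(Subgroup.centralizer ({((f x : K) : G)} : Set G)) :=
    { toFun := fun c => ⟨((f c : K) : G), by
        rw [Subgroup.mem_centralizer_singleton_iff]
        have h1 := Subgroup.mem_centralizer_singleton_iff.1 c.2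
        have h2 := congrArg (fun y => ((f y : K) : G)) h1
        simpa using h2⟩
      map_one' := by
        apply Subtype.ext
        simp
      map_mul' := by
        intro a b
        apply Subtype.ext
        simp }
  exact ZJ.hasNormalPComplement_of_injective g (fun a b hab => by
    apply Subtype.ext
    have h3 : (g a : G) = (g b : G) := congrArg Subtype.val hab
    exact f.injective (Subtype.ext h3)) h

/-- `l(B₀(G)) ≥ 2` -/
theorem wtGe_one_two {p : ℕ} {X : Type v} [Group X] [Finite X] (hX : ¬ HasNormalPComplement p X) :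
    WtGe.{u, v} p (1 : X) 2 := by
  intro M G i1 i2 K f hS
  have : Fact p.Prime := ⟨hS.prime⟩
  refine wtGe_two (fun h => hX ?_) M G K f hS
  let g : X →* ↥(Subgroup.centralizer ({(1 : X)} : Set X)) :=
    { toFun := fun c => ⟨c, by rw [Subgroup.mem_centralizer_singleton_iff, mul_one, one_mul]⟩
      map_one' := rfl
      map_mul' := fun _ _ => rfl }
  exact ZJ.hasNormalPComplement_of_injective g (fun a b hab => congrArg Subtype.val hab) h

open Classical in
/-- The weight of a `p`-element, computed in `X`. -/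
noncomputable def wt (p : ℕ) {X : Type*} [Group X] (x : X) : ℕ :=
  if HasNormalPComplement p ↥(Subgroup.centralizer ({x} : Set X)) then 1 else 2

theorem one_le_wt {p : ℕ} {X : Type*} [Group X] (x : X) : 1 ≤ wt p x := by
  unfold wt
  split_ifs <;> norm_num

theorem wt_eq_two {p : ℕ} {X : Type*} [Group X] {x : X}
    (h : ¬ HasNormalPComplement p ↥(Subgroup.centralizer ({x} : Set X))) : wt p x = 2 := if_neg h

theorem wtGe_wt {p : ℕ} {X : Type v} [Group X] (x : X) : WtGe.{u, v} p x (wt p x) := by
  unfold wt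
  split_ifs with h
  · exact wtGe_one x
  · exact wtGe_two h

/-- Conjugation by an element of `G` is an automorphism of `X`. -/
theorem exists_aut {G : Type*} [Group G] {K : Subgroup G} (hK : K.Normal) {X : Type*} [Group X] (f : X ≃* K)
    {x y : X} (h : IsConj ((f x : K) : G) ((f y : K) : G)) : ∃ σ : X ≃* X, σ x = y := by
  obtain ⟨g, hg⟩ := isConj_iff.1 h
  refine ⟨(f.trans (MulAut.conjNormal g : MulAut K)).trans f.symm, ?_⟩
  have h1 : (MulAut.conjNormal g : MulAut K) (f x) = f y := Subtype.ext hg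
  change f.symm ((MulAut.conjNormal g : MulAut K) (f x)) = y
  rw [h1, f.symm_apply_apply]

/-- **CRITERION W.** `p`-elements of `X`, pairwise not conjugate under `Aut X`, of total weight at least `n`
(the element `1` is allowed). -/
theorem KGe.of_weights {p n : ℕ} {X : Type v} [Group X] (T : Finset X)
    (hT : ∀ x ∈ T, ∃ k : ℕ, orderOf x = p ^ k)
    (hinj : ∀ x ∈ T, ∀ y ∈ T, ∀ σ : X ≃* X, σ x = y → x = y) (wt : X → ℕ)
    (hw : ∀ x ∈ T, WtGe.{u, v} p x (wt x)) (hn : n ≤ ∑ x ∈ T, wt x) : KGe.{u, v} p n X := by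
  classical
  intro M G _ _ K hS
  have : Fact p.Prime := ⟨hS.prime⟩
  obtain ⟨f⟩ := hS.iso
  have hfi : Function.Injective fun x : X => ((f x : K) : G) := fun a b h => f.injective (Subtype.ext h)
  have h1 := TwoA.sum_rank_le hS.modular (T.image fun x : X => ((f x : K) : G))
    (by
      intro y hy
      obtain ⟨x, hx, rfl⟩ := Finset.mem_image.1 hy
      obtain ⟨k, hk⟩ := hT x hx
      exact ⟨k, by rw [Subgroup.orderOf_coe, MulEquiv.orderOf_eq, hk]⟩)
    (by
      intro y hy y' hy' h
      obtain ⟨x, hx, rfl⟩ := Finset.mem_image.1 hy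
      obtain ⟨x', hx', rfl⟩ := Finset.mem_image.1 hy'
      obtain ⟨σ, hσ⟩ := exists_aut hS.normal f h
      rw [hinj x hx x' hx' σ hσ])
  rw [Finset.sum_image fun a _ b _ h => hfi h] at h1
  exact hn.trans ((Finset.sum_le_sum fun x hx => hw x hx M G K f hS).trans h1)

/-- Criterion W for nontrivial `p`-elements. -/
theorem KGe.of_weights' {p n m : ℕ} {X : Type v} [Group X] [Finite X] (T : Finset X) (hT : ∀ x ∈ T, El p x)
    (hinj : ∀ x ∈ T, ∀ y ∈ T, ∀ σ : X ≃* X, σ x = y → x = y) (wt : X → ℕ)
    (hw : ∀ x ∈ T, WtGe.{u, v} p x (wt x)) (h1 : WtGe.{u, v} p (1 : X) m) (hn : n ≤ m + ∑ x ∈ T, wt x) :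
    KGe.{u, v} p n X := by
  classical
  have h1T : (1 : X) ∉ T := fun h => (hT 1 h).2 rfl
  refine KGe.of_weights (insert 1 T) ?_ ?_ (fun x => if x = 1 then m else wt x) ?_ ?_
  · intro x hx
    rcases Finset.mem_insert.1 hx with rfl | hx
    · exact ⟨0, by simp⟩
    · exact (hT x hx).1
  · intro x hx y hy σ hσ
    rcases Finset.mem_insert.1 hx with rfl | hx
    · rw [← hσ, map_one]
    rcases Finset.mem_insert.1 hy with rfl | hy
    · exact (map_eq_one_iff σ σ.injective).1 hσ
    · exact hinj x hx y hy σ hσ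
  · intro x hx
    rcases Finset.mem_insert.1 hx with rfl | hx
    · simpa using h1
    · simpa [(hT x hx).2] using hw x hx
  · rw [Finset.sum_insert h1T, if_pos rfl]
    refine hn.trans (Nat.add_le_add_left (le_of_eq ?_) _)
    exact Finset.sum_congr rfl fun x hx => (if_neg (hT x hx).2).symm

/-- **CRITERION W for a row**: total weight at least 5. -/
theorem KRow.of_weights {p : ℕ} {X : Type v} [Group X] [Finite X] (hX : ¬ HasNormalPComplement p X)
    (T : Finset X) (hT : ∀ x ∈ T, El p x)
    (hinj : ∀ x ∈ T, ∀ y ∈ T, ∀ σ : X ≃* X, σ x = y → x = y) (wt : X → ℕ)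
    (hw : ∀ x ∈ T, WtGe.{u, v} p x (wt x)) (hn : 5 ≤ ∑ x ∈ T, wt x) : KRow.{u, v} p X :=
  KGe.of_weights' T hT hinj wt hw (wtGe_one_two hX) (by omega)

/-- Criterion W with the weights 1 and 2 computed in `X`. -/
theorem KRow.of_wt {p : ℕ} {X : Type v} [Group X] [Finite X] (hX : ¬ HasNormalPComplement p X)
    (T : Finset X) (hT : ∀ x ∈ T, El p x)
    (hinj : ∀ x ∈ T, ∀ y ∈ T, ∀ σ : X ≃* X, σ x = y → x = y) (hn : 5 ≤ ∑ x ∈ T, wt p x) :
    KRow.{u, v} p X :=
  KRow.of_weights hX T hT hinj (wt p) (fun x _ => wtGe_wt x) hn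

theorem card_centralizer_aut {X : Type*} [Group X] (σ : X ≃* X) (x : X) :
    Nat.card ↥(Subgroup.centralizer ({σ x} : Set X)) = Nat.card ↥(Subgroup.centralizer ({x} : Set X)) := by
  refine Nat.card_congr
    { toFun := fun c => ⟨σ.symm c, ?_⟩
      invFun := fun c => ⟨σ c, ?_⟩
      left_inv := fun c => Subtype.ext (σ.apply_symm_apply _)
      right_inv := fun c => Subtype.ext (σ.symm_apply_apply _) }
  · rw [Subgroup.mem_centralizer_singleton_iff]
    apply σ.injective
    rw [map_mul, map_mul, σ.apply_symm_apply]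
    exact Subgroup.mem_centralizer_singleton_iff.1 c.2
  · rw [Subgroup.mem_centralizer_singleton_iff, ← map_mul, ← map_mul,
      Subgroup.mem_centralizer_singleton_iff.1 c.2]

/-- Elements told apart by their orders and the orders of their centralizers. -/
theorem KRow.of_wt_card {p : ℕ} {X : Type v} [Group X] [Finite X] (hX : ¬ HasNormalPComplement p X)
    (T : Finset X) (hT : ∀ x ∈ T, El p x)
    (hinj : ∀ x ∈ T, ∀ y ∈ T, orderOf x = orderOf y → Nat.card ↥(Subgroup.centralizer ({x} : Set X)) =
      Nat.card ↥(Subgroup.centralizer ({y} : Set X)) → x = y) (hn : 5 ≤ ∑ x ∈ T, wt p x) :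
    KRow.{u, v} p X :=
  KRow.of_wt hX T hT (fun x hx y hy σ hσ => by
    refine hinj x hx y hy ?_ ?_
    · rw [← hσ, MulEquiv.orderOf_eq]
    · rw [← hσ, card_centralizer_aut]) hn

/-- A nonabelian simple group of order divisible by `p` has no normal `p`-complement. -/
theorem not_compl_of_simple {p : ℕ} [hp : Fact p.Prime] {X : Type*} [Group X] [Finite X] [hs : IsSimpleGroup X]
    (hna : ∃ a b : X, a * b ≠ b * a) (hd : p ∣ Nat.card X) : ¬ HasNormalPComplement p X := by
  rintro ⟨P, N, hN, hc⟩
  have hP1 : (P : Subgroup X) ≠ ⊥ := by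
    intro h
    have h1 := P.not_dvd_index
    rw [h, Subgroup.index_bot] at h1
    exact h1 hd
  rcases hs.eq_bot_or_eq_top_of_normal N hN with h | h
  · have h1 : (P : Subgroup X) = ⊤ := by
      have := hc.sup_eq_top
      rwa [h, bot_sup_eq] at this
    have hPG : IsPGroup p X := by
      have h2 := P.isPGroup'
      rw [h1] at h2
      exact h2.of_equiv Subgroup.topEquiv
    have hX : Nontrivial X := hs.toNontrivial
    have hcen := hPG.center_nontrivial
    rcases hs.eq_bot_or_eq_top_of_normal (Subgroup.center X) inferInstance with h2 | h2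
    · rw [h2] at hcen
      exact absurd hcen (by
        intro h3
        exact not_subsingleton _ (inferInstance : Subsingleton (⊥ : Subgroup X)))
    · obtain ⟨a, b, hab⟩ := hna
      apply hab
      have : b ∈ Subgroup.center X := by rw [h2]; trivial
      exact Subgroup.mem_center_iff.1 this a
  · rw [h] at hc
    exact hP1 (Subgroup.isComplement'_top_left.1 hc)

end Cfsg.Agent.H61.K6
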