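import Cfsg.Agent.H61.K6.CritD
import Cfsg.Agent.H334.Four.FactFour

/-!
# S4876: criterion O (helper61)

`KGe.of_classes` : all but at most `m` irreducible characters of `X` are in `B₀(X)` and `X` has at least `n + m`
classes under `Aut X`. `KRow.of_classes` : own characteristic (all characters but one in `B₀`, eight classes).
-/

set_option autoImplicit false

open Cfsg

namespace Cfsg.Agent.H61.K6

universe u v

open Cfsg.Agent.H334.Four

/-- the number of orbits of `Aut X` on `Irr X` is at least the number of elements pairwise not conjugate under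
`Aut X` -/
theorem card_le_orbits {X : Type v} [Group X] [Finite X] (T : Finset X)
    (hinj : ∀ x ∈ T, ∀ y ∈ T, ∀ σ : X ≃* X, σ x = y → x = y) :
    T.card ≤ Nat.card (@MulAction.orbitRel.Quotient (MulAut X) (IrrCharacter X) _ actIrr) := by
  classical
  rw [card_orbits]
  have hfin : Finite (@MulAction.orbitRel.Quotient (MulAut X) (ConjClasses X) _ actCl) := Quotient.finite _
  let F : T → @MulAction.orbitRel.Quotient (MulAut X) (ConjClasses X) _ actCl :=
    fun x => Quotient.mk _ (ConjClasses.mk (x : X))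
  have hF : Function.Injective F := by
    intro x y hxy
    obtain ⟨a, ha⟩ : ∃ a : MulAut X, (ConjClasses.mk (a (y : X))) = ConjClasses.mk (x : X) :=
      Quotient.exact hxy
    obtain ⟨c, hc⟩ := isConj_iff.1 (ConjClasses.mk_eq_mk_iff_isConj.1 ha)
    exact Subtype.ext (hinj y y.2 x x.2 (a.trans (MulAut.conj c)) hc).symm
  have h1 := Nat.card_le_card_of_injective F hF
  rwa [Nat.card_eq_fintype_card, Fintype.card_coe] at h1

/-- **CRITERION O.** -/
theorem KGe.of_classes {p n m : ℕ} {X : Type v} [Group X] [Finite X] (T : Finset X)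
    (hinj : ∀ x ∈ T, ∀ y ∈ T, ∀ σ : X ≃* X, σ x = y → x = y) (hcard : n + m ≤ T.card)
    (hB : ∀ M : Ideal AlgInt, IsPModular p M → ∃ E : Finset (IrrCharacter X), E.card ≤ m ∧
      ∀ χ : IrrCharacter X, χ ∉ E → χ ∈ principalBlock M X) : KGe.{u, v} p n X := by
  classical
  refine KGe.of_chars fun M hM => ?_
  obtain ⟨E, hEm, hE⟩ := hB M hM
  have h1 := hcard.trans (card_le_orbits T hinj)
  let act := actIrr (S := X)
  have : Finite (IrrCharacter X) := Characters.Core.finite_irr
  have hfin : Finite (MulAction.orbitRel.Quotient (MulAut X) (IrrCharacter X)) := Quotient.finite _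
  have := Fintype.ofFinite (MulAction.orbitRel.Quotient (MulAut X) (IrrCharacter X))
  rw [Nat.card_eq_fintype_card] at h1
  let bad : Finset (MulAction.orbitRel.Quotient (MulAut X) (IrrCharacter X)) := E.image (Quotient.mk _)
  have hbad : bad.card ≤ m := Finset.card_image_le.trans hEm
  have hgood : n ≤ badᶜ.card := by
    rw [Finset.card_compl]
    omega
  have hout : ∀ q : MulAction.orbitRel.Quotient (MulAut X) (IrrCharacter X),
      Quotient.mk _ (Quotient.out q) = q := fun q => Quotient.out_eq q
  refine ⟨badᶜ.image Quotient.out, ?_, ?_, ?_⟩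
  · rw [Finset.card_image_of_injective _ Quotient.out_injective]
    exact hgood
  · intro χ hχ
    obtain ⟨q, hq, rfl⟩ := Finset.mem_image.1 hχ
    refine hE _ fun h2 => ?_
    rw [Finset.mem_compl] at hq
    exact hq (Finset.mem_image.2 ⟨_, h2, hout q⟩)
  · intro χ hχ ψ hψ σ hσ
    obtain ⟨q, hq, rfl⟩ := Finset.mem_image.1 hχ
    obtain ⟨r, hr, rfl⟩ := Finset.mem_image.1 hψ
    have h2 : q = r := by
      rw [← hout q, ← hout r]
      apply Quotient.sound
      refine ⟨(σ : MulAut X), ?_⟩
      apply Subtype.ext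
      funext s
      change ((Quotient.out r : IrrCharacter X) : X → ℂ) (σ.symm s) =
        ((Quotient.out q : IrrCharacter X) : X → ℂ) s
      rw [hσ, σ.apply_symm_apply]
    rw [h2]

/-- Criterion O for a row: all irreducible characters but one lie in `B₀(X)`, eight classes under `Aut X`. -/
theorem KRow.of_classes {p : ℕ} {X : Type v} [Group X] [Finite X] (T : Finset X)
    (hinj : ∀ x ∈ T, ∀ y ∈ T, ∀ σ : X ≃* X, σ x = y → x = y) (hcard : 8 ≤ T.card)
    (hB : ∀ M : Ideal AlgInt, IsPModular p M → ∃ St : IrrCharacter X,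
      ∀ χ : IrrCharacter X, χ ≠ St → χ ∈ principalBlock M X) : KRow.{u, v} p X :=
  KGe.of_classes (n := 7) (m := 1) T hinj hcard fun M hM => by
    obtain ⟨St, h⟩ := hB M hM
    exact ⟨{St}, by simp, fun χ hχ => h χ fun h1 => hχ (Finset.mem_singleton.2 h1)⟩

/-- Criterion O with classes told apart by any invariant of `Aut X`, for instance the order of the element and the
order of its centralizer. -/
theorem KRow.of_classes_inv {p : ℕ} {X : Type v} [Group X] [Finite X] {ι : Type*} (inv : X → ι)
    (hinv : ∀ (σ : X ≃* X) (x : X), inv (σ x) = inv x) (T : Finset ι) (hT : ∀ i ∈ T, ∃ x : X, inv x = i)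
    (hcard : 8 ≤ T.card)
    (hB : ∀ M : Ideal AlgInt, IsPModular p M → ∃ St : IrrCharacter X,
      ∀ χ : IrrCharacter X, χ ≠ St → χ ∈ principalBlock M X) : KRow.{u, v} p X := by
  classical
  have hex : ∀ i : ι, ∃ x : X, i ∈ T → inv x = i := by
    intro i
    by_cases hi : i ∈ T
    · obtain ⟨x, hx⟩ := hT i hi
      exact ⟨x, fun _ => hx⟩
    · exact ⟨1, fun h => absurd h hi⟩
  choose F hF using hex
  refine KRow.of_classes (T.image F) ?_ ?_ hB
  · intro x hx y hy σ hσ
    obtain ⟨i, hi, rfl⟩ := Finset.mem_image.1 hx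
    obtain ⟨j, hj, rfl⟩ := Finset.mem_image.1 hy
    have h1 := hinv σ (F i)
    rw [hσ, hF i hi, hF j hj] at h1
    rw [h1]
  · rwa [Finset.card_image_of_injOn fun i hi j hj h => by rw [← hF i hi, h, hF j hj]]

end Cfsg.Agent.H61.K6
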