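import Cfsg.Agent.H61.K6.Base

/-!
# S4876: cyclic Sylow subgroups (helper61)

`card_of_cyclic` : `P` cyclic of order `p ^ (a + 1)`, `a ≥ 1`: `p ^ a + 2 ≤ k(B₀(G))`;
`seven_of_cyclic`, `KRow.of_cyclic` : `7 ≤ k(B₀)` if `5 p ≤ |P|`.
-/

set_option autoImplicit false

open Cfsg

namespace Cfsg.Agent.H61.K6

open Cfsg.Agent.H634

universe u v

section

variable {G : Type*} [Group G] [Finite G] {p : ℕ} [hp : Fact p.Prime] (P : Sylow p G)

/-- conjugate generators `u ^ i`, `u ^ j`, `i ≡ j ≡ 1 mod p`, are equal -/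
theorem eq_of_conj (hab : ∀ a ∈ P, ∀ b ∈ P, a * b = b * a) {u : (P : Subgroup G)}
    (hu : ∀ x : (P : Subgroup G), x ∈ Subgroup.zpowers u)
    {n : ℕ} (hn : orderOf u = p ^ (n + 1)) {i j : ℕ} (hi : i ≡ 1 [MOD p]) (hj : j ≡ 1 [MOD p])
    (h : IsConj ((u ^ i : (P : Subgroup G)) : G) ((u ^ j : (P : Subgroup G)) : G)) : u ^ i = u ^ j := by
  have hpp := hp.out
  obtain ⟨g, hg⟩ := isConj_iff.1 h
  have hcop : ∀ k : ℕ, k ≡ 1 [MOD p] → ∀ x : (P : Subgroup G), x ∈ Subgroup.zpowers (u ^ k) := by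
    intro k hk x
    have h1 : Nat.Coprime (orderOf u) k := by
      rw [hn]
      refine Nat.Coprime.pow_left _ ((Nat.Prime.coprime_iff_not_dvd hpp).2 fun h2 => ?_)
      have h3 : k % p = 0 := Nat.mod_eq_zero_of_dvd h2
      have h4 : k % p = 1 % p := hk
      rw [Nat.mod_eq_of_lt hpp.one_lt] at h4
      omega
    have h2 : u ∈ Subgroup.zpowers (u ^ k) := by
      rw [mem_zpowers_pow_iff]
      exact Nat.Coprime.symm h1
    exact (Subgroup.zpowers_le.2 h2) (hu x)
  -- `g` normalizes `P`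
  have hgP : ∀ x ∈ (P : Subgroup G), g * x * g⁻¹ ∈ (P : Subgroup G) := by
    intro x hx
    obtain ⟨m, hm⟩ := hcop i hi ⟨x, hx⟩
    have h1 : x = (((u ^ i : (P : Subgroup G)) : G)) ^ m := by
      have := congrArg Subtype.val hm
      simpa using this.symm
    rw [h1, ← conj_zpow, hg]
    exact zpow_mem (u ^ j).2 m
  have hgN : g ∈ Subgroup.normalizer ((P : Subgroup G) : Set G) := by
    have hle : (P : Subgroup G).map (MulAut.conj g).toMonoidHom ≤ (P : Subgroup G) := by
      rintro _ ⟨x, hx, rfl⟩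
      exact hgP x hx
    have heq : (P : Subgroup G).map (MulAut.conj g).toMonoidHom = (P : Subgroup G) :=
      Subgroup.eq_of_le_of_card_ge hle (le_of_eq
        (Nat.card_congr ((P : Subgroup G).equivMapOfInjective _ (MulAut.conj g).injective).toEquiv))
    rw [Subgroup.mem_normalizer_iff]
    intro x
    refine ⟨fun hx => hgP x hx, fun hx => ?_⟩
    have h1 : g * x * g⁻¹ ∈ (P : Subgroup G).map (MulAut.conj g).toMonoidHom := by
      rw [heq]
      exact hx
    obtain ⟨y, hy, hyx⟩ := h1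
    have h2 : g * y * g⁻¹ = g * x * g⁻¹ := hyx
    rw [← mul_left_cancel (mul_right_cancel h2)]
    exact hy
  set φ := (P : Subgroup G).normalizerMonoidHom with hφ
  set σ : MulAut (P : Subgroup G) := φ ⟨g, hgN⟩ with hσ
  have hact : ∀ x : (P : Subgroup G), ((σ x : (P : Subgroup G)) : G) = g * x * g⁻¹ := fun x => rfl
  -- the order of `σ` is prime to `p`
  have hcard : Nat.card φ.range =
      (Subgroup.centralizer ((P : Subgroup G) : Set G)).relIndex
        (Subgroup.normalizer ((P : Subgroup G) : Set G)) := by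
    rw [← Subgroup.index_ker, Subgroup.normalizerMonoidHom_ker]
    rfl
  have hPC : (P : Subgroup G) ≤ Subgroup.centralizer ((P : Subgroup G) : Set G) := by
    intro x hx
    rw [Subgroup.mem_centralizer_iff]
    intro y hy
    exact hab y hy x hx
  have hnd : ¬ p ∣ Nat.card φ.range := by
    rw [hcard]
    intro h1
    have h2 : (Subgroup.centralizer ((P : Subgroup G) : Set G)).relIndex
        (Subgroup.normalizer ((P : Subgroup G) : Set G)) ∣ (P : Subgroup G).index :=
      (Subgroup.relIndex_dvd_of_le_left _ hPC).trans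
        (Subgroup.relIndex_dvd_index_of_le (Subgroup.le_normalizer))
    exact P.not_dvd_index (h1.trans h2)
  have hod : orderOf σ ∣ Nat.card φ.range := by
    have h1 : orderOf (⟨σ, ⟨_, rfl⟩⟩ : φ.range) ∣ Nat.card φ.range := orderOf_dvd_natCard _
    rwa [← Subgroup.orderOf_coe] at h1
  -- `σ` is the power map `r`
  obtain ⟨r', hr'⟩ := hu (σ u)
  obtain ⟨r, hr⟩ : ∃ r : ℕ, u ^ r = σ u := by
    have h1 : σ u ∈ Submonoid.powers u := mem_powers_iff_mem_zpowers.2 (hu (σ u))
    obtain ⟨r, hr⟩ := h1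
    exact ⟨r, hr⟩
  have hpow : ∀ m : ℕ, (σ ^ m) u = u ^ (r ^ m) := by
    intro m
    induction m with
    | zero => simp
    | succ m ih =>
      rw [pow_succ', MulAut.mul_apply, ih, map_pow, ← hr, ← pow_mul, ← pow_succ']
  have hij : u ^ (r * i) = u ^ j := by
    have h1 : σ (u ^ i) = u ^ j := Subtype.ext ((hact (u ^ i)).trans hg)
    rw [map_pow, ← hr, ← pow_mul] at h1
    exact h1
  have hr1 : r ≡ 1 [MOD p] := by
    have h1 : r * i ≡ j [MOD p ^ (n + 1)] := by rw [← hn]; exact pow_eq_pow_iff_modEq.1 hij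
    have h2 : r * i ≡ j [MOD p] := h1.of_dvd (dvd_pow_self p (Nat.succ_ne_zero n))
    calc r = r * 1 := (mul_one r).symm
      _ ≡ r * i [MOD p] := Nat.ModEq.mul_left r hi.symm
      _ ≡ j [MOD p] := h2
      _ ≡ 1 [MOD p] := hj
  have hrn : r ^ p ^ n ≡ 1 [MOD p ^ (n + 1)] := by
    have h1 : (p : ℤ) ∣ (r : ℤ) - 1 := by
      have := (Nat.modEq_iff_dvd.1 hr1.symm)
      exact_mod_cast this
    have h2 := dvd_sub_pow_of_dvd_sub h1 n
    rw [one_pow] at h2
    refine (Nat.modEq_iff_dvd.2 ?_).symm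
    push_cast
    exact h2
  have hσ1 : σ ^ p ^ n = 1 := by
    apply MulEquiv.ext
    intro x
    obtain ⟨m, rfl⟩ := hu x
    change (σ ^ p ^ n) (u ^ m) = u ^ m
    rw [map_zpow, hpow]
    congr 1
    conv_rhs => rw [← pow_one u]
    rw [pow_eq_pow_iff_modEq, hn]
    exact hrn
  have hσo : orderOf σ = 1 := by
    have h1 : orderOf σ ∣ p ^ n := orderOf_dvd_of_pow_eq_one hσ1
    exact Nat.eq_one_of_dvd_coprimes
      (Nat.Coprime.pow_left n ((Nat.Prime.coprime_iff_not_dvd hpp).2 hnd)).symm hod h1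
  have hσ2 : σ = 1 := orderOf_eq_one_iff.1 hσo
  have h1 : σ (u ^ i) = u ^ j := Subtype.ext ((hact (u ^ i)).trans hg)
  rw [hσ2] at h1
  exact h1

/-- **Cyclic Sylow subgroups**: `p ^ n + 2 ≤ k(B₀)` if `|P| = p ^ (n + 1)`, `n ≥ 1`. -/
theorem card_of_cyclic {M : Ideal AlgInt} (hM : IsPModular p M) (hc : IsCyclic (P : Subgroup G)) {n : ℕ}
    (hn1 : 1 ≤ n) (hP : Nat.card (P : Subgroup G) = p ^ (n + 1)) :
    p ^ n + 2 ≤ Nat.card (principalBlock M G) := by
  classical
  have hpp := hp.out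
  obtain ⟨u, hu⟩ := hc.exists_generator
  have hn : orderOf u = p ^ (n + 1) := by rw [orderOf_eq_card_of_forall_mem_zpowers hu, hP]
  have hab : ∀ a ∈ P, ∀ b ∈ P, a * b = b * a := by
    intro a ha b hb
    obtain ⟨k, hk⟩ := hu ⟨a, ha⟩
    obtain ⟨l, hl⟩ := hu ⟨b, hb⟩
    have h1 : (⟨a, ha⟩ : (P : Subgroup G)) * ⟨b, hb⟩ = ⟨b, hb⟩ * ⟨a, ha⟩ := by
      rw [← hk, ← hl]
      exact (Commute.zpow_zpow_self u k l).eq
    exact congrArg Subtype.val h1
  have hord : ∀ x : (P : Subgroup G), orderOf (x : G) = orderOf x := fun x => Subgroup.orderOf_coe x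
  let F : ℕ → G := fun k => ((u ^ (1 + p * k) : (P : Subgroup G)) : G)
  have hF1 : ∀ k, 1 + p * k ≡ 1 [MOD p] := fun k => by
    simp [Nat.ModEq]
  have hFo : ∀ k, orderOf (F k) = p ^ (n + 1) := by
    intro k
    change orderOf ((u ^ (1 + p * k) : (P : Subgroup G)) : G) = _
    rw [hord, Nat.Coprime.orderOf_pow, hn]
    rw [hn]
    refine Nat.Coprime.pow_left _ ((Nat.Prime.coprime_iff_not_dvd hpp).2 fun h2 => ?_)
    have h3 : p ∣ 1 := (Nat.dvd_add_left (Dvd.intro _ rfl)).1 h2
    exact hpp.one_lt.ne' (Nat.dvd_one.1 h3)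
  have hinjF : ∀ k < p ^ n, ∀ l < p ^ n, u ^ (1 + p * k) = u ^ (1 + p * l) → k = l := by
    intro k hk l hl h
    have h1 : 1 + p * k ≡ 1 + p * l [MOD p ^ (n + 1)] := by rw [← hn]; exact pow_eq_pow_iff_modEq.1 h
    have h2 : p * k ≡ p * l [MOD p * p ^ n] := by
      rw [← pow_succ']
      exact Nat.ModEq.add_left_cancel' 1 h1
    have h3 : k ≡ l [MOD p ^ n] := Nat.ModEq.mul_left_cancel' hpp.ne_zero h2
    unfold Nat.ModEq at h3
    rwa [Nat.mod_eq_of_lt hk, Nat.mod_eq_of_lt hl] at h3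
  obtain ⟨w, hw⟩ : ∃ w : G, w = ((u ^ (p ^ n) : (P : Subgroup G)) : G) := ⟨_, rfl⟩
  have hwo : orderOf w = p := by
    rw [hw, hord, orderOf_pow' _ (pow_ne_zero _ hpp.ne_zero), hn, pow_succ,
      Nat.gcd_eq_right (Dvd.intro _ rfl), Nat.mul_div_cancel_left _ (pow_pos hpp.pos _)]
  have hlt : p < p ^ (n + 1) := by
    calc p = p ^ 1 := (pow_one p).symm
      _ < p ^ (n + 1) := Nat.pow_lt_pow_right hpp.one_lt (by omega)
  let S : Finset G := (Finset.range (p ^ n)).image F
  have hSo : ∀ x ∈ S, orderOf x = p ^ (n + 1) := by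
    intro x hx
    obtain ⟨k, -, rfl⟩ := Finset.mem_image.1 hx
    exact hFo k
  have hScard : S.card = p ^ n := by
    rw [Finset.card_image_of_injOn, Finset.card_range]
    intro k hk l hl h
    exact hinjF k (Finset.mem_range.1 (Finset.mem_coe.1 hk)) l (Finset.mem_range.1 (Finset.mem_coe.1 hl))
      (Subtype.ext h)
  have hwS : w ∉ S := fun h => by
    have := hSo w h
    rw [hwo] at this
    omega
  have h1S : (1 : G) ∉ insert w S := by
    intro h
    rcases Finset.mem_insert.1 h with h | h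
    · rw [← h, orderOf_one] at hwo
      exact hpp.one_lt.ne hwo
    · have := hSo 1 h
      rw [orderOf_one] at this
      have h2 := hpp.one_lt
      omega
  have hordconj : ∀ x y : G, IsConj x y → orderOf x = orderOf y := by
    intro x y h
    obtain ⟨c, hc⟩ := isConj_iff.1 h
    rw [← hc]
    exact (MulEquiv.orderOf_eq (MulAut.conj c) x).symm
  have hSconj : ∀ x ∈ S, ∀ y ∈ S, IsConj x y → x = y := by
    intro x hx y hy h
    obtain ⟨k, -, rfl⟩ := Finset.mem_image.1 hx
    obtain ⟨l, -, rfl⟩ := Finset.mem_image.1 hy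
    exact congrArg Subtype.val (eq_of_conj P hab hu hn (hF1 k) (hF1 l) h)
  have h1 := TwoA.sum_rank_le (p := p) hM (insert 1 (insert w S))
    (by
      intro x hx
      rcases Finset.mem_insert.1 hx with rfl | hx
      · exact ⟨0, by simp⟩
      rcases Finset.mem_insert.1 hx with rfl | hx
      · exact ⟨1, by rw [hwo, pow_one]⟩
      · exact ⟨n + 1, hSo x hx⟩)
    (by
      intro x hx y hy h
      have ho := hordconj x y h
      rcases Finset.mem_insert.1 hx with rfl | hx'
      · exact (isConj_one_right.1 h).symm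
      rcases Finset.mem_insert.1 hy with rfl | hy'
      · exact isConj_one_left.1 h
      rcases Finset.mem_insert.1 hx' with rfl | hx''
      · rcases Finset.mem_insert.1 hy' with rfl | hy''
        · rfl
        · rw [hwo, hSo y hy''] at ho
          omega
      rcases Finset.mem_insert.1 hy' with rfl | hy''
      · rw [hwo, hSo x hx''] at ho
        omega
      · exact hSconj x hx'' y hy'' h)
  have h2 : (insert 1 (insert w S)).card ≤ ∑ x ∈ insert 1 (insert w S),
      blockRank p (principalBlock M ↥(Subgroup.centralizer ({x} : Set G))) := by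
    rw [Finset.card_eq_sum_ones]
    refine Finset.sum_le_sum fun x _ => ?_
    have := Fintype.ofFinite ↥(Subgroup.centralizer ({x} : Set G))
    exact Cols.blockRank_pos hM
  rw [Finset.card_insert_of_notMem h1S, Finset.card_insert_of_notMem hwS, hScard] at h2
  omega

/-- Cyclic Sylow subgroups of order at least `5 p`: `7 ≤ k(B₀)`. -/
theorem seven_of_cyclic {M : Ideal AlgInt} (hM : IsPModular p M) (hc : IsCyclic (P : Subgroup G))
    (hP : 5 * p ≤ Nat.card (P : Subgroup G)) : 7 ≤ Nat.card (principalBlock M G) := by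
  have hpp := hp.out
  obtain ⟨a, ha⟩ := IsPGroup.iff_card.1 P.isPGroup'
  rw [ha] at hP
  have h2 : 2 ≤ a := by
    by_contra h
    have h3 : a = 0 ∨ a = 1 := by omega
    have h4 := hpp.pos
    rcases h3 with rfl | rfl
    · rw [pow_zero] at hP
      omega
    · rw [pow_one] at hP
      omega
  obtain ⟨n, rfl⟩ : ∃ n, a = n + 1 := ⟨a - 1, by omega⟩
  have h3 := card_of_cyclic P hM hc (n := n) (by omega) ha
  rw [pow_succ] at hP
  have h4 : 5 ≤ p ^ n := Nat.le_of_mul_le_mul_right hP hpp.pos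
  omega

end

/-- A row with a cyclic Sylow subgroup of order at least `5 p`. -/
theorem KRow.of_cyclic {p : ℕ} [hp : Fact p.Prime] {X : Type v} [Group X] [Finite X] (P : Sylow p X)
    (hc : IsCyclic (P : Subgroup X)) (hP : 5 * p ≤ Nat.card (P : Subgroup X)) : KRow.{u, v} p X := by
  intro M G _ _ K hS
  obtain ⟨f⟩ := hS.iso
  -- the image of `P` is a Sylow subgroup of `G`
  let g : X →* G := K.subtype.comp f.toMonoidHom
  have hg : Function.Injective g := fun a b h => f.injective (Subtype.ext h)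
  have hcard : Nat.card ((P : Subgroup X).map g) = Nat.card (P : Subgroup X) :=
    (Nat.card_congr ((P : Subgroup X).equivMapOfInjective g hg).toEquiv).symm
  have hindex : ¬ p ∣ ((P : Subgroup X).map g).index := by
    have h1 : ((P : Subgroup X).map g).index * Nat.card (P : Subgroup X) =
        K.index * (P : Subgroup X).index * Nat.card (P : Subgroup X) := by
      have h2 := ((P : Subgroup X).map g).index_mul_card
      have h3 := K.index_mul_card
      have h4 := (P : Subgroup X).index_mul_card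
      rw [hcard] at h2
      rw [h2, mul_assoc, h4, ← h3, Nat.card_congr f.toEquiv]
    have h2 := Nat.eq_of_mul_eq_mul_right Nat.card_pos h1
    rw [h2]
    exact fun h3 => (hp.out.dvd_mul.1 h3).elim hS.ndvd P.not_dvd_index
  have hpg : IsPGroup p ((P : Subgroup X).map g) := P.isPGroup'.map g
  let Q : Sylow p G := hpg.toSylow hindex
  have hQ : (Q : Subgroup G) = (P : Subgroup X).map g := rfl
  have hcQ : IsCyclic (Q : Subgroup G) :=
    isCyclic_of_surjective ((P : Subgroup X).equivMapOfInjective g hg).toMonoidHom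
      ((P : Subgroup X).equivMapOfInjective g hg).surjective
  exact seven_of_cyclic Q hS.modular hcQ (by rw [hQ, hcard]; exact hP)

end Cfsg.Agent.H61.K6
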